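import Mathlib.RingTheory.Localization.AtPrime.Basic
import Mathlib.RingTheory.Localization.BaseChange
import Mathlib.RingTheory.TensorProduct.Finite
import Mathlib.RingTheory.Spectrum.Maximal.Defs
import Mathlib.RingTheory.Noetherian.Basic
import Mathlib.Algebra.Algebra.Pi
import Mathlib.Algebra.Algebra.Prod
import Mathlib.RingTheory.Finiteness.Basic
import Mathlib.Tactic.LinearCombination

/-!
# Glueing algebras at finitely many maximal ideals
-/

set_option autoImplicit false

universe u

open TensorProduct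

namespace Groth.Agent.Lib.CycGlue

variable {A : Type u} [CommRing A] {r : ℕ} {m : Fin r → Ideal A} [∀ i, (m i).IsMaximal]
  (hinj : Function.Injective m) {B : Fin r → Type u} [∀ i, CommRing (B i)] [∀ i, Algebra A (B i)]
  [∀ i, Algebra (Localization.AtPrime (m i)) (B i)] [∀ i, IsScalarTower A (Localization.AtPrime (m i)) (B i)]

local notation "J" => (⨅ i, m i : Ideal A)
local notation "Loc" => fun i => Localization.AtPrime (m i)

/-- The maximal ideals away from the given ones. -/
abbrev Rest (m : Fin r → Ideal A) : Type u := {M : MaximalSpectrum A // ∀ i, M.asIdeal ≠ m i}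

/-- The ambient ring. -/
abbrev Amb (m : Fin r → Ideal A) (B : Fin r → Type u) : Type u :=
  (Π i, B i) × (Π p : Rest m, Localization.AtPrime p.1.asIdeal)

/-- The glued algebra. -/
def glue (m : Fin r → Ideal A) (B : Fin r → Type u) [∀ i, CommRing (B i)] [∀ i, Algebra A (B i)] :
    Subalgebra A (Amb m B) where
  carrier := {x | ∃ n : ℕ, ∀ g ∈ (⨅ i, m i) ^ n, ∃ a : A, algebraMap A _ a = g • x}
  mul_mem' := by
    rintro x y ⟨n, hn⟩ ⟨k, hk⟩
    refine ⟨n + k, fun g hg => ?_⟩
    rw [pow_add] at hg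
    induction hg using Submodule.mul_induction_on' with
    | mem_mul_mem p hp q hq =>
      obtain ⟨a, ha⟩ := hn p hp
      obtain ⟨b, hb⟩ := hk q hq
      exact ⟨a * b, by rw [map_mul, ha, hb, smul_mul_smul_comm]⟩
    | add p _ q _ hp hq =>
      obtain ⟨a, ha⟩ := hp
      obtain ⟨b, hb⟩ := hq
      exact ⟨a + b, by rw [map_add, ha, hb, add_smul]⟩
  add_mem' := by
    rintro x y ⟨n, hn⟩ ⟨k, hk⟩
    refine ⟨n + k, fun g hg => ?_⟩
    obtain ⟨a, ha⟩ := hn g (Ideal.pow_le_pow_right (Nat.le_add_right n k) hg)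
    obtain ⟨b, hb⟩ := hk g (Ideal.pow_le_pow_right (Nat.le_add_left k n) hg)
    exact ⟨a + b, by rw [map_add, ha, hb, smul_add]⟩
  algebraMap_mem' a := ⟨0, fun g _ => ⟨g * a, by rw [map_mul, Algebra.smul_def]⟩⟩

/-- The projection at `m i`. -/
def proj (i : Fin r) : glue m B →ₐ[A] B i :=
  ((Pi.evalAlgHom A B i).comp (AlgHom.fst A _ _)).comp (glue m B).val

theorem isUnit_loc {M : Ideal A} [M.IsPrime] {R : Type u} [CommRing R] [Algebra A R]
    [Algebra (Localization.AtPrime M) R] [IsScalarTower A (Localization.AtPrime M) R] {c : A} (hc : c ∉ M) :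
    IsUnit (algebraMap A R c) := by
  rw [IsScalarTower.algebraMap_apply A (Localization.AtPrime M) R]
  exact (IsLocalization.map_units (Localization.AtPrime M) (⟨c, hc⟩ : M.primeCompl)).map _

theorem exists_notMem_of_ne {M M' : Ideal A} (hM : M.IsMaximal) (hM' : M' ≠ ⊤) (h : M ≠ M') :
    ∃ c ∈ M, c ∉ M' := by
  by_contra hne
  push Not at hne
  exact h (hM.eq_of_le hM' hne)

include hinj

theorem exists_mul_mem (j : Fin r) {k : ℕ} {s : A} (hs : s ∈ m j ^ k) : ∃ c ∉ m j, c * s ∈ J ^ k := by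
  classical
  have h : ∀ l, l ≠ j → ∃ c ∈ m l, c ∉ m j := fun l hl =>
    exists_notMem_of_ne inferInstance (Ideal.IsPrime.ne_top inferInstance) (fun e => hl (hinj e))
  choose! c hc hcj using h
  let d := ∏ l ∈ Finset.univ.erase j, c l
  have hd : d ∉ m j := fun hd => by
    obtain ⟨l, hl, hl'⟩ := (Ideal.IsPrime.prod_mem_iff).1 hd
    exact hcj l (Finset.ne_of_mem_erase hl) hl'
  have hle : m j * Ideal.span {d} ≤ J := le_iInf fun l => by
    by_cases hl : l = j
    · exact hl ▸ Ideal.mul_le_left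
    · refine Ideal.mul_le_right.trans ((Ideal.span_singleton_le_iff_mem _).2 ?_)
      exact Ideal.mem_of_dvd _ (Finset.dvd_prod_of_mem _ (Finset.mem_erase.2 ⟨hl, Finset.mem_univ _⟩)) (hc l hl)
  refine ⟨d ^ k, fun h => hd ((Ideal.IsPrime.mem_of_pow_mem inferInstance) k h), Ideal.pow_right_mono hle k ?_⟩
  rw [mul_pow, mul_comm (d ^ k)]
  exact Ideal.mul_mem_mul hs (Ideal.pow_mem_pow (Ideal.mem_span_singleton_self _) k)

theorem exists_sep (i : Fin r) (k : ℕ) : ∃ s ∉ m i, ∀ j, j ≠ i → s ∈ m j ^ k := by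
  classical
  have h : ∀ l, l ≠ i → ∃ c ∈ m l, c ∉ m i := fun l hl =>
    exists_notMem_of_ne inferInstance (Ideal.IsPrime.ne_top inferInstance) (fun e => hl (hinj e))
  choose! c hc hci using h
  refine ⟨∏ l ∈ Finset.univ.erase i, c l ^ k, fun hd => ?_, fun j hj => ?_⟩
  · obtain ⟨l, hl, hl'⟩ := (Ideal.IsPrime.prod_mem_iff).1 hd
    exact hci l (Finset.ne_of_mem_erase hl) ((Ideal.IsPrime.mem_of_pow_mem inferInstance) k hl')
  · exact Ideal.mem_of_dvd _ (Finset.dvd_prod_of_mem _ (Finset.mem_erase.2 ⟨hj, Finset.mem_univ _⟩))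
      (Ideal.pow_mem_pow (hc j hj) k)

omit hinj

theorem exists_mem_pow (p : Rest m) (k : ℕ) : ∃ c ∈ J ^ k, c ∉ p.1.asIdeal := by
  classical
  have h : ∀ l, ∃ c ∈ m l, c ∉ p.1.asIdeal := fun l =>
    exists_notMem_of_ne inferInstance p.1.isMaximal.ne_top (fun e => p.2 l e.symm)
  choose c hc hcp using h
  refine ⟨(∏ l, c l) ^ k, Ideal.pow_mem_pow ?_ k, fun hd => ?_⟩
  · exact (Submodule.mem_iInf _).2 fun l => Ideal.mem_of_dvd _ (Finset.dvd_prod_of_mem _ (Finset.mem_univ l)) (hc l)
  · obtain ⟨l, -, hl'⟩ := (Ideal.IsPrime.prod_mem_iff).1 (p.1.isMaximal.isPrime.mem_of_pow_mem k hd)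
    exact hcp l hl'

theorem ext_amb {x y : Amb m B} (h1 : ∀ i, x.1 i = y.1 i) (h2 : ∀ p, x.2 p = y.2 p) : x = y :=
  Prod.ext (funext h1) (funext h2)

/-- Membership in a submodule is local. -/
theorem mem_of_local {M : Type u} [AddCommGroup M] [Module A M] (S : Submodule A M) (w : M)
    (h : ∀ P : Ideal A, P.IsMaximal → ∃ s ∉ P, s • w ∈ S) : w ∈ S := by
  have : S.colon {w} = ⊤ := by
    by_contra hne
    obtain ⟨P, hP, hle⟩ := Ideal.exists_le_maximal _ hne
    obtain ⟨s, hs, hsw⟩ := h P hP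
    exact hs (hle (Submodule.mem_colon_singleton.2 hsw))
  simpa using Submodule.mem_colon_singleton.1 ((Ideal.eq_top_iff_one _).1 this)

variable [IsNoetherianRing A] {N : ℕ}
  (hker : ∀ i, ∀ g ∈ m i ^ N, ∀ x : Localization.AtPrime (m i),
    algebraMap _ (B i) x = 0 → algebraMap A (Localization.AtPrime (m i)) g * x = 0)
  (hcok : ∀ i, ∀ g ∈ m i ^ N, ∀ b : B i, ∃ x : Localization.AtPrime (m i), algebraMap _ (B i) x = g • b)

theorem exists_killer (i : Fin r) : ∃ u ∉ m i, ∀ a : A, algebraMap A (Localization.AtPrime (m i)) a = 0 → u * a = 0 := by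
  classical
  obtain ⟨G, hG⟩ := (IsNoetherian.noetherian (RingHom.ker (algebraMap A (Localization.AtPrime (m i)))) :
    (RingHom.ker (algebraMap A (Localization.AtPrime (m i)))).FG)
  have h : ∀ a ∈ G, ∃ u : (m i).primeCompl, (u : A) * a = 0 := fun a ha => by
    have h0 : algebraMap A (Localization.AtPrime (m i)) a = algebraMap A _ 0 := by
      rw [map_zero]
      exact (RingHom.mem_ker).1 (hG ▸ Submodule.subset_span ha)
    obtain ⟨u, hu⟩ := (IsLocalization.eq_iff_exists (m i).primeCompl _).1 h0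
    exact ⟨u, by simpa using hu⟩
  choose! u hu using h
  refine ⟨((∏ a ∈ G, u a : (m i).primeCompl) : A), (∏ a ∈ G, u a).2, fun a ha => ?_⟩
  have ha' : a ∈ Submodule.span A (G : Set A) := hG ▸ (RingHom.mem_ker).2 ha
  clear ha
  induction ha' using Submodule.span_induction with
  | mem a ha =>
    rw [Submonoid.coe_finsetProd, ← Finset.mul_prod_erase G _ ha, mul_comm (u a : A), mul_assoc, hu a ha, mul_zero]
  | zero => rw [mul_zero]
  | add x y _ _ hx hy => rw [mul_add, hx, hy, add_zero]
  | smul c x _ hx => rw [smul_eq_mul, mul_left_comm, hx, mul_zero]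

include hinj hker

theorem kill {w : glue m B} (i : Fin r) (hw : proj i w = 0) : ∃ s ∉ m i, s • w = 0 := by
  obtain ⟨n, hn⟩ := w.2
  obtain ⟨u, hu, hu0⟩ := exists_killer (m := m) i
  have hk : ∀ g ∈ J ^ (n + N), (g * u) • (w : Amb m B) = 0 := by
    intro g hg
    rw [pow_add] at hg
    induction hg using Submodule.mul_induction_on' with
    | mem_mul_mem p hp q hq =>
      obtain ⟨b, hb⟩ := hn p hp
      have h1 : algebraMap A (Localization.AtPrime (m i)) b ∈ RingHom.ker (algebraMap _ (B i)) := by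
        rw [RingHom.mem_ker, ← IsScalarTower.algebraMap_apply]
        have e := congrArg (fun x : Amb m B => x.1 i) hb
        refine e.trans ?_
        show p • proj i w = 0
        rw [hw, smul_zero]
      have h2 := hker i q (Ideal.pow_right_mono (iInf_le _ i) N hq) _ h1
      rw [← map_mul] at h2
      have h3 := hu0 _ h2
      rw [show p * q * u = u * q * p by ring, mul_smul, ← hb, Algebra.smul_def, ← map_mul, mul_assoc, h3, map_zero]
    | add p _ q _ hp hq => rw [add_mul, add_smul, hp, hq, add_zero]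
  obtain ⟨s, hs, hsj⟩ := exists_sep hinj i (n + N)
  refine ⟨s * u, Ideal.IsPrime.mul_notMem inferInstance hs hu, Subtype.ext (ext_amb (fun j => ?_) fun p => ?_)⟩
  · show (s * u) • (w : Amb m B).1 j = 0
    by_cases hj : j = i
    · subst hj
      rw [show (w : Amb m B).1 j = proj j w from rfl, hw, smul_zero]
    · obtain ⟨c, hc, hcs⟩ := exists_mul_mem hinj j (hsj j hj)
      have h := congrArg (fun x : Amb m B => x.1 j) (hk _ hcs)
      change (c * s * u) • (w : Amb m B).1 j = 0 at h
      rw [mul_assoc, mul_smul, Algebra.smul_def] at h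
      exact (isUnit_loc hc).mul_right_eq_zero.1 h
  · show (s * u) • (w : Amb m B).2 p = 0
    obtain ⟨c, hcJ, hc⟩ := exists_mem_pow p (n + N)
    have h := congrArg (fun x : Amb m B => x.2 p) (hk _ (Ideal.mul_mem_right s _ hcJ))
    change (c * s * u) • (w : Amb m B).2 p = 0 at h
    rw [mul_assoc, mul_smul, Algebra.smul_def] at h
    exact (isUnit_loc (M := p.1.asIdeal) hc).mul_right_eq_zero.1 h

include hcok

theorem lift_proj (i : Fin r) (b : B i) : ∃ s ∉ m i, ∃ w : glue m B, proj i w = s • b := by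
  classical
  obtain ⟨G, hG⟩ := (IsNoetherian.noetherian (J ^ N) : (J ^ N).FG)
  have hGJ : ∀ g ∈ G, g ∈ J ^ N := fun g hg => hG ▸ Submodule.subset_span hg
  have hz : ∀ g ∈ G, ∃ x : Localization.AtPrime (m i), algebraMap _ (B i) x = g • b := fun g hg =>
    hcok i g (Ideal.pow_right_mono (iInf_le _ i) N (hGJ g hg)) b
  choose! x hx using hz
  obtain ⟨t, ht⟩ := IsLocalization.exist_integer_multiples (m i).primeCompl G x
  choose! a ha using ht
  obtain ⟨u, hu, hu0⟩ := exists_killer (m := m) i
  have hA : ∀ g ∈ G, algebraMap (Localization.AtPrime (m i)) (B i) (algebraMap A _ (a g)) =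
      ((t : A) * g) • b := fun g hg => by
    rw [ha g hg, Algebra.smul_def, map_mul, hx g hg, ← IsScalarTower.algebraMap_apply, ← Algebra.smul_def, mul_smul]
  have hrel : ∀ g ∈ G, ∀ g' ∈ G, ∀ h ∈ J ^ N, g * (h * u * a g') = h * g' * (u * a g) := by
    intro g hg g' hg' h hh
    have h1 : algebraMap A (Localization.AtPrime (m i)) (g * a g' - g' * a g) ∈
        RingHom.ker (algebraMap _ (B i)) := by
      rw [RingHom.mem_ker, map_sub, map_mul, map_mul, map_sub, map_mul, map_mul, hA g' hg', hA g hg,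
        ← IsScalarTower.algebraMap_apply, ← IsScalarTower.algebraMap_apply, ← Algebra.smul_def, ← Algebra.smul_def,
        ← mul_smul, ← mul_smul, ← sub_smul, show g * ((t : A) * g') - g' * ((t : A) * g) = 0 by ring, zero_smul]
    have h2 := hker i h (Ideal.pow_right_mono (iInf_le _ i) N hh) _ h1
    rw [← map_mul] at h2
    have h3 := hu0 _ h2
    linear_combination h3
  have hI : ∀ z ∈ J ^ N * J ^ N, ∃ e : A, ∀ g ∈ G, g * e = z * (u * a g) := by
    intro z hz
    induction hz using Submodule.mul_induction_on' with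
    | mem_mul_mem h hh g' hg' =>
      rw [← hG] at hg'
      induction hg' using Submodule.span_induction with
      | mem g' hg' => exact ⟨h * u * a g', fun g hg => hrel g hg g' hg' h hh⟩
      | zero => exact ⟨0, by simp⟩
      | add p q _ _ hp hq =>
        obtain ⟨e, he⟩ := hp
        obtain ⟨f, hf⟩ := hq
        exact ⟨e + f, fun g hg => by rw [mul_add, he g hg, hf g hg]; ring⟩
      | smul c p _ hp =>
        obtain ⟨e, he⟩ := hp
        exact ⟨c * e, fun g hg => by rw [mul_left_comm, he g hg, smul_eq_mul]; ring⟩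
    | add p _ q _ hp hq =>
      obtain ⟨e, he⟩ := hp
      obtain ⟨f, hf⟩ := hq
      exact ⟨e + f, fun g hg => by rw [mul_add, he g hg, hf g hg]; ring⟩
  rw [← pow_add] at hI
  obtain ⟨s, hs, hsj⟩ := exists_sep hinj i (N + N)
  have hloc : ∀ (R : Type u) [CommRing R] [Algebra A R] (c : A), IsUnit (algebraMap A R c) → c * s ∈ J ^ (N + N) →
      ∃ v : R, ∀ g ∈ G, g • v = algebraMap A R (s * u * a g) := by
    intro R _ _ c hc hcs
    obtain ⟨e, he⟩ := hI _ hcs
    obtain ⟨d, hd⟩ := hc
    refine ⟨↑d⁻¹ * algebraMap A R e, fun g hg => ?_⟩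
    rw [Algebra.smul_def, mul_left_comm, ← map_mul, he g hg,
      show c * s * (u * a g) = c * (s * u * a g) by ring, map_mul _ c, ← hd, Units.inv_mul_cancel_left]
  have hj : ∀ j, j ≠ i → ∃ v : B j, ∀ g ∈ G, g • v = algebraMap A (B j) (s * u * a g) := fun j hj => by
    obtain ⟨c, hc, hcs⟩ := exists_mul_mem hinj j (hsj j hj)
    exact hloc _ c (isUnit_loc hc) hcs
  have hp : ∀ p : Rest m, ∃ v : Localization.AtPrime p.1.asIdeal, ∀ g ∈ G,
      g • v = algebraMap A (Localization.AtPrime p.1.asIdeal) (s * u * a g) := fun p => by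
    obtain ⟨c, hcJ, hc⟩ := exists_mem_pow p (N + N)
    exact hloc _ c (isUnit_loc (M := p.1.asIdeal) hc) (Ideal.mul_mem_right s _ hcJ)
  choose! v hv using hj
  choose w hw using hp
  let W : Amb m B := (Function.update v i ((s * u * (t : A)) • b), w)
  have hW : ∀ g ∈ G, algebraMap A (Amb m B) (s * u * a g) = g • W := by
    intro g hg
    refine ext_amb (fun j => ?_) fun p => (hw p g hg).symm
    show algebraMap A (B j) (s * u * a g) = g • Function.update v i ((s * u * (t : A)) • b) j
    by_cases hji : j = i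
    · subst hji
      rw [Function.update_self, map_mul, IsScalarTower.algebraMap_apply A (Localization.AtPrime (m j)) (B j) (a g),
        hA g hg, ← Algebra.smul_def, ← mul_smul, ← mul_smul]
      congr 1
      ring
    · rw [Function.update_of_ne hji]
      exact (hv j hji g hg).symm
  have hWmem : W ∈ glue m B := by
    refine ⟨N, fun g hg => ?_⟩
    rw [← hG] at hg
    induction hg using Submodule.span_induction with
    | mem g hg => exact ⟨_, hW g hg⟩
    | zero => exact ⟨0, by rw [map_zero, zero_smul]⟩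
    | add p q _ _ hp hq =>
      obtain ⟨e, he⟩ := hp
      obtain ⟨f, hf⟩ := hq
      exact ⟨e + f, by rw [map_add, he, hf, add_smul]⟩
    | smul c p _ hp =>
      obtain ⟨e, he⟩ := hp
      exact ⟨c * e, by rw [map_mul, he, smul_eq_mul, mul_smul c, Algebra.smul_def c]⟩
  refine ⟨s * u * t, Ideal.IsPrime.mul_notMem inferInstance (Ideal.IsPrime.mul_notMem inferInstance hs hu) t.2,
    ⟨W, hWmem⟩, Function.update_self _ _ _⟩

theorem isLocalizedModule_proj (i : Fin r) :
    IsLocalizedModule (m i).primeCompl (proj (m := m) (B := B) i).toLinearMap := by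
  refine ⟨fun s => ?_, fun b => ?_, fun {x y} h => ?_⟩
  · rw [Module.End.isUnit_iff]
    obtain ⟨d, hd⟩ := isUnit_loc (R := B i) (M := m i) s.2
    refine ⟨fun p q e => ?_, fun p => ⟨↑d⁻¹ * p, ?_⟩⟩
    · simp only [Module.algebraMap_end_apply, Algebra.smul_def, ← hd] at e
      exact d.isUnit.mul_left_cancel e
    · simp only [Module.algebraMap_end_apply, Algebra.smul_def, ← hd, Units.mul_inv_cancel_left]
  · obtain ⟨s, hs, w, hw⟩ := lift_proj hinj hker hcok i b
    exact ⟨⟨w, ⟨s, hs⟩⟩, hw.symm⟩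
  · obtain ⟨s, hs, hs0⟩ := kill hinj hker (w := x - y) i (by
      rw [map_sub, sub_eq_zero]; exact h)
    exact ⟨⟨s, hs⟩, by rw [smul_sub, sub_eq_zero] at hs0; exact hs0⟩

theorem nonempty_equiv (i : Fin r) :
    Nonempty ((Localization.AtPrime (m i)) ⊗[A] glue m B ≃ₐ[Localization.AtPrime (m i)] B i) := by
  have hb := (isLocalizedModule_iff_isBaseChange (m i).primeCompl (Localization.AtPrime (m i)) _).1
    (isLocalizedModule_proj hinj hker hcok i)
  let Φ : (Localization.AtPrime (m i)) ⊗[A] glue m B →ₐ[Localization.AtPrime (m i)] B i :=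
    Algebra.TensorProduct.lift (Algebra.ofId _ _) (proj i) fun _ _ => Commute.all _ _
  have : (Φ : _ → B i) = hb.equiv := funext fun z => by
    induction z using TensorProduct.induction_on with
    | zero => simp
    | tmul s x =>
      rw [Algebra.TensorProduct.lift_tmul, hb.equiv_tmul, Algebra.smul_def]
      rfl
    | add p q hp hq => rw [map_add, map_add, hp, hq]
  exact ⟨AlgEquiv.ofBijective Φ (this ▸ hb.equiv.bijective)⟩

omit hcok

/-- A submodule of the glued algebra containing `A` and full at each `m i` is everything. -/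
theorem eq_top (S : Submodule A (glue m B)) (h1 : ∀ a : A, algebraMap A (glue m B) a ∈ S)
    (h : ∀ (i : Fin r) (w : glue m B), ∃ s ∉ m i, ∃ c ∈ S, s • proj i w = proj i c) : S = ⊤ := by
  refine eq_top_iff.2 fun w _ => mem_of_local S w fun P hP => ?_
  by_cases hPm : ∃ i, P = m i
  · obtain ⟨i, rfl⟩ := hPm
    obtain ⟨s, hs, c, hc, he⟩ := h i w
    obtain ⟨t, ht, ht0⟩ := kill hinj hker (w := s • w - c) i (by rw [map_sub, map_smul, he, sub_self])
    refine ⟨t * s, Ideal.IsPrime.mul_notMem inferInstance ht hs, ?_⟩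
    rw [smul_sub, sub_eq_zero] at ht0
    rw [mul_smul, ht0]
    exact S.smul_mem t hc
  · push Not at hPm
    obtain ⟨n, hn⟩ := w.2
    obtain ⟨c, hcJ, hc⟩ := exists_mem_pow (⟨⟨P, hP⟩, hPm⟩ : Rest m) n
    obtain ⟨a, ha⟩ := hn c hcJ
    exact ⟨c, hc, (show c • w = algebraMap A _ a from Subtype.ext ha.symm) ▸ h1 a⟩

include hcok

theorem smul_mem_range (g : A) (hg : g ∈ J ^ N) (w : glue m B) : g • w ∈ (algebraMap A (glue m B)).range := by
  let S : Submodule A (glue m B) := LinearMap.range (Algebra.linearMap A (glue m B))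
  suffices g • w ∈ S from this
  refine mem_of_local S _ fun P hP => ?_
  by_cases hPm : ∃ i, P = m i
  · obtain ⟨i, rfl⟩ := hPm
    obtain ⟨x, hx⟩ := hcok i g (Ideal.pow_right_mono (iInf_le _ i) N hg) (proj i w)
    obtain ⟨⟨a, t⟩, hat⟩ := IsLocalization.surj (m i).primeCompl x
    dsimp only at hat
    have hz : proj i ((t : A) • g • w - algebraMap A (glue m B) a) = 0 := by
      rw [map_sub, map_smul, map_smul, AlgHom.commutes, sub_eq_zero, ← hx,
        IsScalarTower.algebraMap_apply A (Localization.AtPrime (m i)) (B i), ← hat, map_mul,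
        ← IsScalarTower.algebraMap_apply, Algebra.smul_def, mul_comm]
    obtain ⟨u, hu, hu0⟩ := kill hinj hker i hz
    refine ⟨u * t, Ideal.IsPrime.mul_notMem inferInstance hu t.2, u * a, ?_⟩
    rw [smul_sub, sub_eq_zero] at hu0
    rw [mul_smul, hu0, Algebra.linearMap_apply, map_mul, Algebra.smul_def]
  · push Not at hPm
    obtain ⟨n, hn⟩ := w.2
    obtain ⟨c, hcJ, hc⟩ := exists_mem_pow (⟨⟨P, hP⟩, hPm⟩ : Rest m) n
    obtain ⟨a, ha⟩ := hn c hcJ
    refine ⟨c, hc, g * a, ?_⟩
    rw [smul_comm, Algebra.linearMap_apply, map_mul, Algebra.smul_def g, show c • w = algebraMap A _ a from Subtype.ext ha.symm]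

theorem finite_glue (h : ∀ i, Module.Finite (Localization.AtPrime (m i)) (B i)) : Module.Finite A (glue m B) := by
  classical
  choose G hG using fun i => (h i).fg_top
  choose s hs w hw using fun i b => lift_proj hinj hker hcok i b
  let T : Finset (glue m B) := insert 1 (Finset.univ.biUnion fun i => (G i).image (w i))
  refine ⟨⟨T, eq_top hinj hker _ (fun a => ?_) fun i x => ?_⟩⟩
  · rw [Algebra.algebraMap_eq_smul_one]
    exact Submodule.smul_mem _ a (Submodule.subset_span (Finset.mem_insert_self _ _))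
  · have hx : proj i x ∈ Submodule.span (Localization.AtPrime (m i)) (G i : Set (B i)) := by
      rw [hG i]; trivial
    generalize hy : proj i x = y at hx ⊢
    clear hy x
    induction hx using Submodule.span_induction with
    | mem b hb =>
      exact ⟨s i b, hs i b, w i b, Submodule.subset_span (Finset.mem_insert_of_mem
        (Finset.mem_biUnion.2 ⟨i, Finset.mem_univ _, Finset.mem_image_of_mem _ hb⟩)), (hw i b).symm⟩
    | zero => exact ⟨1, (fun h => Ideal.IsPrime.ne_top (inferInstance : (m i).IsPrime) ((Ideal.eq_top_iff_one _).2 h)),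
        0, zero_mem _, by rw [smul_zero, map_zero]⟩
    | add p q _ _ hp hq =>
      obtain ⟨σ, hσ, c, hc, he⟩ := hp
      obtain ⟨τ, hτ, d, hd, hf⟩ := hq
      refine ⟨σ * τ, Ideal.IsPrime.mul_notMem inferInstance hσ hτ, τ • c + σ • d,
        add_mem (Submodule.smul_mem _ _ hc) (Submodule.smul_mem _ _ hd), ?_⟩
      rw [smul_add, map_add, map_smul, map_smul, ← he, ← hf, ← mul_smul, ← mul_smul, mul_comm τ σ]
    | smul e p _ hp =>
      obtain ⟨σ, hσ, c, hc, he⟩ := hp
      obtain ⟨⟨a, t⟩, hat⟩ := IsLocalization.surj (m i).primeCompl e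
      dsimp only at hat
      refine ⟨σ * t, Ideal.IsPrime.mul_notMem inferInstance hσ t.2, a • c, Submodule.smul_mem _ _ hc, ?_⟩
      rw [map_smul, ← he, mul_smul, ← algebraMap_smul (Localization.AtPrime (m i)) (t : A) (e • p), smul_smul,
        mul_comm, hat, algebraMap_smul, smul_comm]

theorem surjective_glue (h : ∀ i, Function.Surjective (algebraMap (Localization.AtPrime (m i)) (B i))) :
    Function.Surjective (algebraMap A (glue m B)) := by
  have := eq_top hinj hker (LinearMap.range (Algebra.linearMap A (glue m B))) (fun a => ⟨a, rfl⟩) fun i x => by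
    obtain ⟨e, he⟩ := h i (proj i x)
    obtain ⟨⟨a, t⟩, hat⟩ := IsLocalization.surj (m i).primeCompl e
    dsimp only at hat
    refine ⟨t, t.2, algebraMap A _ a, ⟨a, rfl⟩, ?_⟩
    rw [AlgHom.commutes, ← he, IsScalarTower.algebraMap_apply A (Localization.AtPrime (m i)) (B i), ← hat, map_mul,
      ← IsScalarTower.algebraMap_apply, Algebra.smul_def, mul_comm]
  exact LinearMap.range_eq_top.1 this

omit hinj hker hcok

theorem eq_zero_of_local (a : A) (h : ∀ P : Ideal A, P.IsMaximal → ∃ s ∉ P, s * a = 0) : a = 0 :=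
  (Submodule.mem_bot A).1 (mem_of_local ⊥ a fun P hP => by
    obtain ⟨s, hs, h0⟩ := h P hP
    exact ⟨s, hs, (Submodule.mem_bot A).2 h0⟩)

theorem loc_eq_zero (p : Rest m) {a : A} (ha : algebraMap A (glue m B) a = 0) :
    algebraMap A (Localization.AtPrime p.1.asIdeal) a = 0 :=
  congrArg (fun x : glue m B => (x : Amb m B).2 p) ha

theorem exists_of_loc {P : Ideal A} [P.IsPrime] {a : A} (h : algebraMap A (Localization.AtPrime P) a = 0) :
    ∃ s ∉ P, s * a = 0 := by
  obtain ⟨s, hs⟩ := (IsLocalization.eq_iff_exists P.primeCompl (Localization.AtPrime P)).1 (h.trans (map_zero _).symm)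
  exact ⟨s, s.2, by simpa using hs⟩

include hker in
theorem ker_kill (a : A) (ha : algebraMap A (glue m B) a = 0) (g : A) (hg : g ∈ J ^ N) : g * a = 0 := by
  refine eq_zero_of_local _ fun P hP => ?_
  by_cases hPm : ∃ i, P = m i
  · obtain ⟨i, rfl⟩ := hPm
    refine exists_of_loc ?_
    rw [map_mul]
    refine hker i g (Ideal.pow_right_mono (iInf_le _ i) N hg) _ ?_
    rw [← IsScalarTower.algebraMap_apply]
    exact congrArg (fun x : glue m B => (x : Amb m B).1 i) ha
  · push Not at hPm
    refine exists_of_loc ?_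
    rw [map_mul, loc_eq_zero (⟨⟨P, hP⟩, hPm⟩ : Rest m) ha, mul_zero]

theorem injective_glue (h : ∀ i, Function.Injective (algebraMap (Localization.AtPrime (m i)) (B i))) :
    Function.Injective (algebraMap A (glue m B)) := by
  rw [injective_iff_map_eq_zero]
  intro a ha
  refine eq_zero_of_local _ fun P hP => ?_
  by_cases hPm : ∃ i, P = m i
  · obtain ⟨i, rfl⟩ := hPm
    refine exists_of_loc (h i ?_)
    rw [map_zero, ← IsScalarTower.algebraMap_apply]
    exact congrArg (fun x : glue m B => (x : Amb m B).1 i) ha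
  · push Not at hPm
    exact exists_of_loc (loc_eq_zero (⟨⟨P, hP⟩, hPm⟩ : Rest m) ha)

end Groth.Agent.Lib.CycGlue
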